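import Groth.Agent.H18Subint.DVRFun
import Groth.Agent.H18Subint.Iso
import Groth.Agent.H18Subint.Roots
import Groth.Agent.S0549
import Mathlib

/-!
# Functions varying along complete discrete valuation rings on seminormal rings
-/

set_option autoImplicit false
set_option backward.isDefEq.respectTransparency false

universe u

open CategoryTheory AlgebraicGeometry W4c1hilbchowinc IsLocalRing

namespace Groth.Agent.H18SNFun

open H18Subint

variable {A : Type u} [CommRing A] (f : PtFun (Spec (CommRingCat.of A)))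

theorem fromSpecResidueField_eq_ev (R : Type u) [CommRing R] (y : Spec (CommRingCat.of R)) :
    (Spec (CommRingCat.of R)).fromSpecResidueField y = Spec.map (CommRingCat.ofHom (ev R y)) := by
  rw [← Scheme.Spec.map_residueFieldIso_inv_eq_fromSpecResidueField, ← Spec.map_comp,
    Scheme.Spec.algebraMap_residueFieldIso_inv]
  rfl

theorem exists_point {L : Type u} [Field L] {R : Type u} [CommRing R] (φ : R →+* L) :
    ∃ (x : Spec (CommRingCat.of R)) (e : (Spec (CommRingCat.of R)).residueField x ⟶ CommRingCat.of L),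
      φ = e.hom.comp (ev R x) := by
  obtain ⟨⟨x, e⟩, he⟩ := ((Spec (CommRingCat.of R)).SpecToEquivOfField L).symm.surjective
    (Spec.map (CommRingCat.ofHom φ))
  refine ⟨x, e, ?_⟩
  have h : Spec.map e ≫ (Spec (CommRingCat.of R)).fromSpecResidueField x = Spec.map (CommRingCat.ofHom φ) := he
  rw [fromSpecResidueField_eq_ev, ← Spec.map_comp, Spec.map_inj] at h
  exact (congrArg CommRingCat.Hom.hom h).symm

/-- The value of a pointwise function at a field valued point. -/
noncomputable def pv {L : Type u} [Field L] (φ : A →+* L) : L :=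
  (((Spec (CommRingCat.of A)).SpecToEquivOfField L) (Spec.map (CommRingCat.ofHom φ))).2
    (f (((Spec (CommRingCat.of A)).SpecToEquivOfField L) (Spec.map (CommRingCat.ofHom φ))).1)

theorem pv_eq {L : Type u} [Field L] (φ : A →+* L) (x : Spec (CommRingCat.of A))
    (e : (Spec (CommRingCat.of A)).residueField x ⟶ CommRingCat.of L) (h : φ = e.hom.comp (ev A x)) :
    pv f φ = e (f x) := by
  have h' : Spec.map (CommRingCat.ofHom φ) = ((Spec (CommRingCat.of A)).SpecToEquivOfField L).symm ⟨x, e⟩ := by
    show _ = Spec.map e ≫ (Spec (CommRingCat.of A)).fromSpecResidueField x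
    rw [fromSpecResidueField_eq_ev, ← Spec.map_comp, Spec.map_inj, h]
    rfl
  unfold pv
  rw [h', Equiv.apply_symm_apply]

theorem pv_comp {L M : Type u} [Field L] [Field M] (φ : A →+* L) (g : L →+* M) :
    pv f (g.comp φ) = g (pv f φ) := by
  obtain ⟨x, e, h⟩ := exists_point φ
  rw [pv_eq f φ x e h, pv_eq f (g.comp φ) x (e ≫ CommRingCat.ofHom g) (by rw [h]; rfl)]
  rfl

theorem pv_ev (x : Spec (CommRingCat.of A)) : pv f (ev A x) = f x :=
  (pv_eq f (ev A x) x (𝟙 _) rfl).trans rfl

theorem exists_pv_of_complete (hf : f.VariesAlongCompleteDVR) {R : Type u} [CommRing R] [IsDomain R]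
    [IsDiscreteValuationRing R] [IsAdicComplete (maximalIdeal R) R] (φ : A →+* R) :
    ∃ r : R, ∀ (L : Type u) [Field L] (h : R →+* L), h r = pv f (h.comp φ) := by
  let g := Spec.map (CommRingCat.ofHom φ)
  obtain ⟨r, hr⟩ := dvr_value f g (hf R g)
  refine ⟨r, fun L _ h => ?_⟩
  obtain ⟨y, e, he⟩ := exists_point h
  have h1 : pv f (h.comp φ) = (g.residueFieldMap y ≫ e) (f (g y)) := by
    refine pv_eq f _ (g y) _ (RingHom.ext fun a => ?_)
    show h (φ a) = e (g.residueFieldMap y (ev A (g y) a))
    rw [pullback_ev, Spec.preimage_map, he]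
    rfl
  rw [h1, CommRingCat.comp_apply, hr, he]
  rfl

/-- A prime of a Noetherian domain is the centre of a map to a complete discrete valuation ring. -/
theorem exists_complete_dvr {B K : Type u} [CommRing B] [IsDomain B] [IsNoetherianRing B] [Field K]
    [Algebra B K] [IsFractionRing B K] (P : Ideal B) [P.IsPrime] (hP : P ≠ ⊥) :
    ∃ (R : Type u) (_ : CommRing R) (_ : IsDomain R) (_ : IsDiscreteValuationRing R)
      (_ : IsAdicComplete (maximalIdeal R) R) (ψ : B →+* R),
      Function.Injective ψ ∧ P = (maximalIdeal R).comap ψ := by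
  obtain ⟨V, hV, hc⟩ := H11Val.exists_dvr_center K (IsFractionRing.injective B K) ∅ (by
    rw [Finset.coe_empty, Set.union_empty]
    refine eq_top_iff.2 fun z _ => ?_
    obtain ⟨a, b, -, rfl⟩ := IsFractionRing.div_surjective (A := B) z
    exact div_mem (Subfield.subset_closure ⟨a, rfl⟩) (Subfield.subset_closure ⟨b, rfl⟩)) P hP
  haveI := hV
  let ι : B →+* V := (algebraMap B K).codRestrict V.toSubring fun a => (hc a).1
  let R := AdicCompletion (maximalIdeal V) V
  obtain ⟨hd, hdvr⟩ := (S0549.result V).1 ⟨inferInstance, hV⟩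
  haveI := hd
  refine ⟨R, inferInstance, hd, hdvr, inferInstance, (algebraMap V R).comp ι,
    ?_, Ideal.ext fun a => ?_⟩
  · intro a b h
    exact IsFractionRing.injective B K (congrArg Subtype.val (FaithfulSMul.algebraMap_injective V R h))
  · rw [Ideal.mem_comap, RingHom.comp_apply, mem_maximalIdeal, mem_nonunits_iff,
      isUnit_map_iff, ← mem_nonunits_iff, ← mem_maximalIdeal, V.valuation_lt_one_iff]
    exact (hc a).2

theorem isIntegral_of_aeval_inv {K : Type u} [Field K] [Algebra A K] {c : K} (hc : c ≠ 0) (P : Polynomial A)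
    (hP : Polynomial.aeval c⁻¹ P = c) : IsIntegral A c := by
  haveI := invertibleOfNonzero (inv_ne_zero hc)
  have h := Polynomial.eval₂_reflect_mul_pow (algebraMap A K) c⁻¹ P.natDegree P le_rfl
  rw [invOf_eq_inv, inv_inv, ← Polynomial.aeval_def, ← Polynomial.aeval_def, hP, inv_pow,
    ← div_eq_mul_inv, div_eq_iff (pow_ne_zero _ hc), ← pow_succ'] at h
  refine ⟨Polynomial.X ^ (P.natDegree + 1) - P.reflect P.natDegree, Polynomial.monic_X_pow_sub ?_, ?_⟩
  · refine lt_of_le_of_lt Polynomial.degree_le_natDegree ?_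
    exact_mod_cast Nat.lt_succ_of_le (Polynomial.natDegree_reflect_le.trans (max_le le_rfl le_rfl))
  · rw [← Polynomial.aeval_def, map_sub, map_pow, Polynomial.aeval_X, h, sub_self]

/-- Maps to fields with the same kernel factor through a common field. -/
theorem exists_factor {B L L' : Type u} [CommRing B] [Field L] [Field L'] (ψ : B →+* L) (ψ' : B →+* L')
    (h : RingHom.ker ψ = RingHom.ker ψ') :
    ∃ (F : Type u) (_ : Field F) (π : B →+* F) (g : F →+* L) (g' : F →+* L'), g.comp π = ψ ∧ g'.comp π = ψ' := by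
  let q := RingHom.ker ψ
  haveI : q.IsPrime := RingHom.ker_isPrime ψ
  let χ₁ : B ⧸ q →+* L := Ideal.Quotient.lift q ψ fun a ha => ha
  let χ₂ : B ⧸ q →+* L' := Ideal.Quotient.lift q ψ' fun a ha => h.le ha
  have h₁ : Function.Injective χ₁ := RingHom.lift_injective_of_ker_le_ideal q _ le_rfl
  have h₂ : Function.Injective χ₂ := RingHom.lift_injective_of_ker_le_ideal q _ h.ge
  refine ⟨FractionRing (B ⧸ q), inferInstance, (algebraMap _ _).comp (Ideal.Quotient.mk q),
    IsFractionRing.lift h₁, IsFractionRing.lift h₂, RingHom.ext fun x => ?_, RingHom.ext fun x => ?_⟩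
  · exact (IsFractionRing.lift_algebraMap h₁ (Ideal.Quotient.mk q x)).trans rfl
  · exact (IsFractionRing.lift_algebraMap h₂ (Ideal.Quotient.mk q x)).trans rfl

theorem pv_of_injective {B K : Type u} [CommRing B] [IsDomain B] [Field K] [Algebra B K] [IsFractionRing B K]
    (j : A →+* B) (b : B) (hb : algebraMap B K b = pv f ((algebraMap B K).comp j)) {L : Type u} [Field L]
    (ψ : B →+* L) (hi : Function.Injective ψ) : ψ b = pv f (ψ.comp j) := by
  let g : K →+* L := IsFractionRing.lift hi
  have hg : g.comp (algebraMap B K) = ψ := RingHom.ext fun c => IsFractionRing.lift_algebraMap hi c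
  rw [← hg, RingHom.comp_assoc, pv_comp f ((algebraMap B K).comp j) g, RingHom.comp_apply, hb]

/-- Values along complete discrete valuation rings determine an element integral over `A`, compatible
with all field valued points. -/
theorem pv_eq_of_isFractionRing (hf : f.VariesAlongCompleteDVR) {B K : Type u} [CommRing B] [IsDomain B]
    [IsNoetherianRing B] [Field K] [Algebra B K] [IsFractionRing B K] (j : A →+* B) (b : B)
    (hb : algebraMap B K b = pv f ((algebraMap B K).comp j)) {L : Type u} [Field L] (ψ : B →+* L) :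
    ψ b = pv f (ψ.comp j) := by
  let q := RingHom.ker ψ
  haveI : q.IsPrime := RingHom.ker_isPrime ψ
  by_cases h0 : q = ⊥
  · exact pv_of_injective f j b hb ψ ((RingHom.injective_iff_ker_eq_bot ψ).2 h0)
  · obtain ⟨R, _, _, _, _, χ, hχ, hq⟩ := exists_complete_dvr (K := K) q h0
    obtain ⟨r, hr⟩ := exists_pv_of_complete f hf (χ.comp j)
    obtain ⟨M, _, i, hi⟩ : ∃ (M : Type u) (_ : Field M) (i : R →+* M), Function.Injective i :=
      ⟨FractionRing R, inferInstance, algebraMap R _, IsFractionRing.injective R _⟩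
    have hb' : χ b = r := by
      apply hi
      rw [hr M i, ← RingHom.comp_apply, ← RingHom.comp_assoc]
      exact pv_of_injective f j b hb (i.comp χ) (hi.comp hχ)
    obtain ⟨F, _, π, gL, gR, eL, eR⟩ := exists_factor ψ ((residue R).comp χ) (Ideal.ext fun a => by
      rw [RingHom.mem_ker, RingHom.mem_ker, RingHom.comp_apply, residue_eq_zero_iff]
      exact SetLike.ext_iff.1 hq a)
    have hF : π b = pv f (π.comp j) := by
      apply gR.injective
      rw [← pv_comp f (π.comp j) gR, ← RingHom.comp_assoc, eR]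
      show gR.comp π b = _
      rw [eR, RingHom.comp_apply, hb', hr _ (residue R), RingHom.comp_assoc]
    rw [← eL, RingHom.comp_apply, hF, ← pv_comp, RingHom.comp_assoc]

theorem isIntegral_pv (hf : f.VariesAlongCompleteDVR) {K : Type u} [Field K] [IsNoetherianRing A] [IsDomain A]
    [Algebra A K] [IsFractionRing A K] :
    IsIntegral A (pv f (algebraMap A K)) := by
  by_contra hint
  set c := pv f (algebraMap A K) with hcdef
  have hc0 : c ≠ 0 := fun h => hint (h ▸ isIntegral_zero)
  let T := Algebra.adjoin A ({c⁻¹} : Set K)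
  haveI : IsNoetherianRing T := isNoetherianRing_of_fg ⟨{c⁻¹}, by rw [Finset.coe_singleton]⟩
  haveI : IsFractionRing T K := by
    refine IsFractionRing.of_field T K fun z => ?_
    obtain ⟨a, b, -, rfl⟩ := IsFractionRing.div_surjective (A := A) z
    exact ⟨algebraMap A T a, algebraMap A T b, rfl⟩
  let t : T := ⟨c⁻¹, Algebra.self_mem_adjoin_singleton A c⁻¹⟩
  have hu : ¬ IsUnit t := fun h => by
    obtain ⟨s, hs⟩ := h.exists_right_inv
    have hs' : c ∈ T := by
      have : c⁻¹ * (s : K) = 1 := congrArg Subtype.val hs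
      have e : (s : K) = c := mul_left_cancel₀ (inv_ne_zero hc0) (by rw [this, inv_mul_cancel₀ hc0])
      exact e ▸ s.2
    rw [show T = _ from Algebra.adjoin_singleton_eq_range_aeval A c⁻¹] at hs'
    obtain ⟨P, hP⟩ := hs'
    refine hint ?_
    exact isIntegral_of_aeval_inv hc0 P hP
  obtain ⟨m, hm, htm⟩ := exists_max_ideal_of_mem_nonunits hu
  obtain ⟨R, _, _, _, _, χ, hχ, hq⟩ := exists_complete_dvr (K := K) m (fun h => by
    have : (t : K) = 0 := congrArg Subtype.val (Ideal.mem_bot.1 (h ▸ htm))
    exact inv_ne_zero hc0 this)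
  obtain ⟨r, hr⟩ := exists_pv_of_complete f hf (χ.comp (algebraMap A T))
  obtain ⟨M, _, i, hi⟩ : ∃ (M : Type u) (_ : Field M) (i : R →+* M), Function.Injective i :=
    ⟨FractionRing R, inferInstance, algebraMap R _, IsFractionRing.injective R _⟩
  have hgi : Function.Injective (i.comp χ) := hi.comp hχ
  let g : K →+* M := IsFractionRing.lift hgi
  have hg : g.comp (algebraMap T K) = i.comp χ := RingHom.ext fun c => IsFractionRing.lift_algebraMap hgi c
  have h1 : i r = g c := by
    rw [hr M i, ← RingHom.comp_assoc, ← hg, RingHom.comp_assoc, pv_comp]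
    rfl
  have h2 : r * χ t = 1 := hi (by
    rw [map_mul, h1, ← RingHom.comp_apply, ← hg, RingHom.comp_apply, map_one, ← map_mul]
    show g (c * c⁻¹) = 1
    rw [mul_inv_cancel₀ hc0, map_one])
  exact (hq.le htm : χ t ∈ maximalIdeal R) (IsUnit.of_mul_eq_one_right _ h2)

/-- **A function varying along complete discrete valuation rings on a seminormal ring is a section.** -/
theorem exists_of_variesAlongCompleteDVR [IsNoetherianRing A] (hA : HTop.IsSeminormalRing A)
    (hf : f.VariesAlongCompleteDVR) : ∃ a : A, ∀ (L : Type u) [Field L] (φ : A →+* L), φ a = pv f φ := by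
  classical
  haveI : _root_.IsReduced A := isReduced_of_sn hA
  let ι := ↥(minimalPrimes A)
  haveI : Finite ι := (minimalPrimes.finite_of_isNoetherianRing A).to_subtype
  haveI hp : ∀ p : ι, p.1.IsPrime := fun p => Ideal.minimalPrimes_isPrime p.2
  let K : ι → Type u := fun p => FractionRing (A ⧸ p.1)
  let κ : ∀ p : ι, A →+* K p := fun p => (algebraMap (A ⧸ p.1) (K p)).comp (Ideal.Quotient.mk p.1)
  have hintK : ∀ p : ι, IsIntegral A (pv f (κ p)) := fun p => by
    -- the same function on the quotient by `p`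
    let mk := CommRingCat.ofHom (Ideal.Quotient.mk p.1)
    let g := Spec.map mk
    let fp : PtFun (Spec (CommRingCat.of (A ⧸ p.1))) := f.pullback g
    have hfp : fp.VariesAlongCompleteDVR := fun R _ _ _ _ h => by
      have := hf R (h ≫ g)
      convert this using 1
      funext y
      show h.residueFieldMap y (g.residueFieldMap (h y) (f (g (h y)))) = (h ≫ g).residueFieldMap y (f ((h ≫ g) y))
      rw [Scheme.residueFieldMap_comp, CommRingCat.comp_apply]
      rfl
    have e : pv fp (algebraMap (A ⧸ p.1) (K p)) = pv f (κ p) := by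
      obtain ⟨x, e, he⟩ := exists_point (algebraMap (A ⧸ p.1) (K p))
      rw [pv_eq fp _ x e he, pv_eq f (κ p) (g x) (g.residueFieldMap x ≫ e) (RingHom.ext fun a => ?_)]
      · rfl
      · show algebraMap (A ⧸ p.1) (K p) (Ideal.Quotient.mk p.1 a) = e (g.residueFieldMap x (ev A (g x) a))
        rw [pullback_ev, Spec.preimage_map, he]
        rfl
    have hi := isIntegral_pv fp hfp (K := K p)
    rw [e] at hi
    haveI : Algebra.IsIntegral A (A ⧸ p.1) := Algebra.IsIntegral.of_finite A _
    exact isIntegral_trans _ hi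
  let b : ∀ p, K p := fun p => pv f (κ p)
  have hb : IsIntegral A b := by
    choose P hP hP0 using hintK
    haveI := Fintype.ofFinite ι
    refine ⟨∏ p, P p, Polynomial.monic_prod_of_monic _ _ fun p _ => hP p, funext fun p => ?_⟩
    rw [← Polynomial.aeval_def]
    show Pi.evalAlgHom A K p (Polynomial.aeval b (∏ p, P p)) = 0
    rw [← Polynomial.aeval_algHom_apply, map_prod]
    exact Finset.prod_eq_zero (Finset.mem_univ p) ((Polynomial.aeval_def _ _).trans (hP0 p))
  let C := Algebra.adjoin A ({b} : Set (∀ p, K p))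
  let bC : C := ⟨b, Algebra.self_mem_adjoin_singleton A b⟩
  haveI : Algebra.IsIntegral A C := ⟨fun x =>
    (isIntegral_algHom_iff C.val Subtype.val_injective).1 (adjoin_le_integralClosure hb x.2)⟩
  haveI : IsNoetherianRing C := isNoetherianRing_of_fg ⟨{b}, by rw [Finset.coe_singleton]⟩
  haveI : _root_.IsReduced C := isReduced_of_injective C.val Subtype.val_injective
  have hinj : Function.Injective (algebraMap A C) := fun x y h => sub_eq_zero.1 <| by
    have hxy : x - y ∈ sInf (minimalPrimes A) := Ideal.mem_sInf.2 fun {q} hq => by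
      have h2 : κ ⟨q, hq⟩ x = κ ⟨q, hq⟩ y := congrFun (congrArg Subtype.val h) ⟨q, hq⟩
      exact Ideal.Quotient.eq.1 (IsFractionRing.injective (A ⧸ q) (FractionRing (A ⧸ q)) h2)
    rwa [show sInf (minimalPrimes A) = nilradical A from Ideal.sInf_minimalPrimes, nilradical_eq_zero] at hxy
  -- values at points of `C`
  have hval : ∀ (L : Type u) [Field L] (ψ : C →+* L), ψ bC = pv f (ψ.comp (algebraMap A C)) := by
    intro L _ ψ
    let pr : ∀ p : ι, C →+* K p := fun p => (Pi.evalRingHom K p).comp C.val.toRingHom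
    haveI : (RingHom.ker ψ).IsPrime := RingHom.ker_isPrime ψ
    obtain ⟨p, hp'⟩ : ∃ p, RingHom.ker (pr p) ≤ RingHom.ker ψ := by
      haveI := Fintype.ofFinite ι
      have : Finset.univ.inf (fun p => RingHom.ker (pr p)) ≤ RingHom.ker ψ := fun c hc => by
        have : c = 0 := Subtype.ext (funext fun p =>
          RingHom.mem_ker.1 ((Submodule.mem_finsetInf).1 hc p (Finset.mem_univ p)))
        rw [this]; exact zero_mem _
      obtain ⟨p, -, hp'⟩ := (Ideal.IsPrime.inf_le' (inferInstance : (RingHom.ker ψ).IsPrime)).1 this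
      exact ⟨p, hp'⟩
    let B := (pr p).range
    haveI : IsNoetherianRing B := isNoetherianRing_of_surjective _ _ _ (pr p).rangeRestrict_surjective
    haveI : IsFractionRing B (K p) := by
      refine IsFractionRing.of_field B (K p) fun z => ?_
      obtain ⟨x, y, -, rfl⟩ := IsFractionRing.div_surjective (A := A ⧸ p.1) z
      obtain ⟨x, rfl⟩ := Ideal.Quotient.mk_surjective x
      obtain ⟨y, rfl⟩ := Ideal.Quotient.mk_surjective y
      exact ⟨⟨_, algebraMap A C x, rfl⟩, ⟨_, algebraMap A C y, rfl⟩, rfl⟩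
    have hk : RingHom.ker (pr p).rangeRestrict ≤ RingHom.ker ψ := by
      rw [RingHom.ker_rangeRestrict]; exact hp'
    let ψB : B →+* L := RingHom.liftOfSurjective (pr p).rangeRestrict (pr p).rangeRestrict_surjective ⟨ψ, hk⟩
    have hψB : ψB.comp (pr p).rangeRestrict = ψ :=
      RingHom.liftOfRightInverse_comp _ _ _ ⟨ψ, hk⟩
    have := pv_eq_of_isFractionRing f hf (K := K p) ((pr p).rangeRestrict.comp (algebraMap A C))
      ((pr p).rangeRestrict bC) rfl ψB
    rw [← RingHom.comp_apply, hψB, ← RingHom.comp_assoc, hψB] at this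
    exact this
  have hu : H17.UnivHomeoAlg.Uq A C := fun L _ ψ ψ' h => by
    exact RingHom.ext fun x => by
      obtain ⟨x, hx⟩ := x
      induction hx using Algebra.adjoin_induction with
      | mem z hz => cases hz; exact (hval L ψ).trans ((congrArg (pv f) h).trans (hval L ψ').symm)
      | algebraMap a => exact RingHom.congr_fun h a
      | add u v hu hv h1 h2 => exact (map_add ψ ⟨u, hu⟩ ⟨v, hv⟩).trans ((congrArg₂ (· + ·) h1 h2).trans (map_add ψ' ⟨u, hu⟩ ⟨v, hv⟩).symm)
      | mul u v hu hv h1 h2 => exact (map_mul ψ ⟨u, hu⟩ ⟨v, hv⟩).trans ((congrArg₂ (· * ·) h1 h2).trans (map_mul ψ' ⟨u, hu⟩ ⟨v, hv⟩).symm)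
  have hr : H17.UnivHomeoAlg.Rg A C := fun L _ ψ F hF x => by
    obtain ⟨x, hx⟩ := x
    induction hx using Algebra.adjoin_induction with
    | mem z hz =>
      cases hz
      show ψ bC ∈ F
      have e : ψ.comp (algebraMap A C) = F.subtype.comp ((ψ.comp (algebraMap A C)).codRestrict F hF) :=
        RingHom.ext fun _ => rfl
      rw [hval L ψ, e, pv_comp]
      exact SetLike.coe_mem _
    | algebraMap a => exact hF a
    | add u v hu hv h1 h2 => exact (map_add ψ ⟨u, hu⟩ ⟨v, hv⟩).symm ▸ add_mem h1 h2
    | mul u v hu hv h1 h2 => exact (map_mul ψ ⟨u, hu⟩ ⟨v, hv⟩).symm ▸ mul_mem h1 h2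
  obtain ⟨a, ha⟩ := (bijective_of_sn hA hinj hu hr).2 bC
  refine ⟨a, fun L _ φ => ?_⟩
  have hbij := bijective_of_sn hA hinj hu hr
  let ψ : C →+* L := φ.comp (RingEquiv.ofBijective (algebraMap A C) hbij).symm.toRingHom
  have hψ : ψ.comp (algebraMap A C) = φ := RingHom.ext fun x => congrArg φ ((RingEquiv.ofBijective _ hbij).symm_apply_apply x)
  have := hval L ψ
  rw [hψ, ← ha] at this
  rw [← this]
  exact (congrArg φ ((RingEquiv.ofBijective (algebraMap A C) hbij).symm_apply_apply a)).symm

theorem existsUnique_section [IsNoetherianRing A] (hA : HTop.IsSeminormalRing A)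
    (hf : f.VariesAlongCompleteDVR) :
    ∃! a : Γ(Spec (CommRingCat.of A), ⊤), PtFun.ofSection (Spec (CommRingCat.of A)) a = f := by
  haveI : _root_.IsReduced A := isReduced_of_sn hA
  obtain ⟨a, ha⟩ := exists_of_variesAlongCompleteDVR f hA hf
  refine ⟨(Scheme.ΓSpecIso (CommRingCat.of A)).inv a, funext fun x => ?_, fun b hb => ?_⟩
  · show ev A x a = f x
    rw [ha _ (ev A x), pv_ev]
  · have : (Scheme.ΓSpecIso (CommRingCat.of A)).hom b = a := sub_eq_zero.1 <| by
      have hn : (Scheme.ΓSpecIso (CommRingCat.of A)).hom b - a ∈ nilradical A := by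
        rw [nilradical_eq_sInf, Ideal.mem_sInf]
        intro q hq
        refine (ev_eq_zero_iff (⟨q, hq⟩ : PrimeSpectrum A) _).1 ?_
        rw [map_sub, sub_eq_zero, ha _ (ev A _), pv_ev, ← congrFun hb]
        show (Spec (CommRingCat.of A)).Γevaluation _
          ((Scheme.ΓSpecIso (CommRingCat.of A)).inv ((Scheme.ΓSpecIso (CommRingCat.of A)).hom b)) = _
        rw [Iso.hom_inv_id_apply]
        rfl
      rwa [nilradical_eq_zero] at hn
    rw [← this, Iso.hom_inv_id_apply]

end Groth.Agent.H18SNFun
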